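import Cfsg.Agent.S2690
import Cfsg.Agent.S0243

/-!
# S5917, part I (group side): at most 18 automorphisms of `L3(4)` fix a Sylow 3-subgroup elementwise (helper888)
-/

set_option autoImplicit false

namespace Cfsg.Agent.H888.L34

open Matrix

section field

variable {F : Type*} [Field F] [Fintype F] (hF : Fintype.card F = 4)

include hF

theorem cube_eq_one {a : F} (ha : a ≠ 0) : a ^ 3 = 1 := by
  have h := FiniteField.pow_card_sub_one_eq_one a ha
  rwa [hF] at h

theorem exists_omega : ∃ ω : F, ω ≠ 0 ∧ ω ≠ 1 ∧ ω ^ 3 = 1 ∧ ω ^ 2 + ω + 1 = 0 := by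
  classical
  obtain ⟨ω, hω⟩ : ∃ ω : F, ω ∉ ({0, 1} : Finset F) := by
    by_contra hcon
    push_neg at hcon
    have h1 : (Finset.univ : Finset F) ⊆ {0, 1} := fun x _ => hcon x
    have h2 := Finset.card_le_card h1
    rw [Finset.card_univ, hF] at h2
    have h3 : ({0, 1} : Finset F).card ≤ 2 := Finset.card_le_two
    omega
  simp only [Finset.mem_insert, Finset.mem_singleton, not_or] at hω
  have h3 := cube_eq_one hF hω.1
  refine ⟨ω, hω.1, hω.2, h3, ?_⟩
  have h4 : (ω - 1) * (ω ^ 2 + ω + 1) = 0 := by ring_nf; rw [h3]; ring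
  exact (mul_eq_zero.1 h4).resolve_left (sub_ne_zero.2 hω.2)

end field

theorem cube_cases {F : Type*} [Field F] {ω z : F} (h1 : ω ^ 2 + ω + 1 = 0) (hz : z ^ 3 = 1) :
    z = 1 ∨ z = ω ∨ z = ω ^ 2 := by
  have h3 : ω ^ 3 = 1 := by
    have : (ω - 1) * (ω ^ 2 + ω + 1) = 0 := by rw [h1, mul_zero]
    have h4 : (ω - 1) * (ω ^ 2 + ω + 1) = ω ^ 3 - 1 := by ring
    rw [h4] at this
    exact sub_eq_zero.1 this
  have h2 : (z - 1) * ((z - ω) * (z - ω ^ 2)) = 0 := by
    have : (z - 1) * ((z - ω) * (z - ω ^ 2)) =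
        z ^ 3 - (ω ^ 2 + ω + 1) * z ^ 2 + ((ω ^ 2 + ω + 1) - 1 + ω ^ 3) * z - ω ^ 3 := by ring
    rw [this, hz, h1, h3]; ring
  rcases mul_eq_zero.1 h2 with h | h
  · exact Or.inl (sub_eq_zero.1 h)
  · rcases mul_eq_zero.1 h with h | h
    · exact Or.inr (Or.inl (sub_eq_zero.1 h))
    · exact Or.inr (Or.inr (sub_eq_zero.1 h))

theorem sigma_ext {F : Type*} [Field F] [Fintype F] (hF : Fintype.card F = 4) {ω : F} (h1 : ω ^ 2 + ω + 1 = 0)
    {σ τ : F ≃+* F} (h : σ ω = τ ω) : σ = τ := by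
  ext z
  by_cases hz : z = 0
  · rw [hz, map_zero, map_zero]
  · rcases cube_cases h1 (cube_eq_one hF hz) with h2 | h2 | h2
    · rw [h2, map_one, map_one]
    · rw [h2, h]
    · rw [h2, map_pow, map_pow, h]

section sl

variable {F : Type*} [Field F]

local notation "SLF" => Matrix.SpecialLinearGroup (Fin 3) F
local notation "PSF" => Matrix.ProjectiveSpecialLinearGroup (Fin 3) F
local notation "MF" => Matrix (Fin 3) (Fin 3) F

/-- inverse transpose -/
def tr (s : SLF) : SLF := ⟨((s⁻¹ : SLF) : MF).transpose, by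
  rw [det_transpose]; exact (s⁻¹).2⟩

/-- the twisted element -/
def nn (ε : Bool) (σ : F ≃+* F) (s : SLF) : SLF :=
  Matrix.SpecialLinearGroup.map (σ : F →+* F) (if ε then tr s else s)

theorem coe_nn (ε : Bool) (σ : F ≃+* F) (s : SLF) :
    (nn ε σ s : MF) = ((if ε then tr s else s : SLF) : MF).map σ := rfl

/-- conjugate of a special matrix by an invertible one -/
def cj (M : GL (Fin 3) F) (s : SLF) : SLF := ⟨(M : MF) * (s : MF) * ((M⁻¹ : GL (Fin 3) F) : MF), by
  rw [det_mul, det_mul, mul_comm (M : MF).det, mul_assoc, ← det_mul, s.2, one_mul]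
  rw [Units.mul_inv, det_one]⟩

/-- every automorphism is semilinear up to inverse transpose -/
theorem aut_form [Fintype F] {p f : ℕ} [Fact p.Prime] (hF : Fintype.card F = p ^ f) (hf : 1 ≤ f)
    (β : MulAut PSF) :
    ∃ (ε : Bool) (σ : F ≃+* F) (M : GL (Fin 3) F), ∀ s : SLF,
      β (QuotientGroup.mk s) = QuotientGroup.mk (cj M (nn ε σ s)) := by
  obtain ⟨δ, φ, γ, σ, ⟨M, hM⟩, hφ, hγ, rfl⟩ := Cfsg.Agent.S2690.result hF hf (n := 3) (by norm_num) (by norm_num) β
  rcases hγ with rfl | hγ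
  · refine ⟨false, σ, M, ?_⟩
    intro s
    have h1 : φ (QuotientGroup.mk s) = QuotientGroup.mk (nn false σ s) := hφ s _ rfl
    change δ (φ (QuotientGroup.mk s)) = _
    rw [h1]
    exact hM _ _ rfl
  · refine ⟨true, σ, M, ?_⟩
    intro s
    have h0 : γ (QuotientGroup.mk s) = QuotientGroup.mk (tr s) := hγ s _ rfl
    have h1 : φ (γ (QuotientGroup.mk s)) = QuotientGroup.mk (nn true σ s) := by
      rw [h0]
      exact hφ _ _ rfl
    change δ (φ (γ (QuotientGroup.mk s))) = _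
    rw [h1]
    exact hM _ _ rfl

theorem mk_eq_mk {s t : SLF} (h : (QuotientGroup.mk s : PSF) = QuotientGroup.mk t) :
    ∃ r : F, r ^ 3 = 1 ∧ (s : MF) = r • (t : MF) := by
  have h' := QuotientGroup.eq.1 h.symm
  obtain ⟨r, hr, h2⟩ := (Matrix.SpecialLinearGroup.mem_center_iff).1 h'
  refine ⟨r, by simpa using hr, ?_⟩
  have h3 : (s : MF) = (t : MF) * ((t⁻¹ * s : SLF) : MF) := by
    rw [← Matrix.SpecialLinearGroup.coe_mul, mul_inv_cancel_left]
  rw [h3, ← h2]
  simp [Matrix.scalar_apply, ← Matrix.smul_one_eq_diagonal]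

end sl

end Cfsg.Agent.H888.L34
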