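import Cfsg.Agent.H482.LF.SimpB
import Cfsg.Agent.H592.L34.ExistsNine
import Cfsg.Agent.H259.L34.VE

/-!
# S5917, E2e: an operator commuting with `S = L₃(4)` whose kernel (of dimension 56) contains the vectors fixed by `E`

`false_192` : an invariant subspace of dimension 192 without a non-zero vector fixed by `E = 3²` does not exist;
`false_T` : the same for the range of an operator `T` with `ker T ⊓ range T = ⊥`, `dim ker T = 56`.
-/

set_option autoImplicit false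
set_option linter.unusedSectionVars false

namespace Cfsg.Agent.H888.L34.E2e

open Cfsg.Agent.H691.L34

theorem finrank_ker_restrict {k V : Type*} [Field k] [AddCommGroup V] [Module k V] [Module.Finite k V] {T : Module.End k V}
    {U : Submodule k V} (hU : ∀ v ∈ U, T v ∈ U) :
    Module.finrank k (LinearMap.ker (T.restrict hU - LinearMap.id)) =
      Module.finrank k ↥(U ⊓ LinearMap.ker (T - LinearMap.id)) := by
  have h1 : (LinearMap.ker (T.restrict hU - LinearMap.id)).map U.subtype = U ⊓ LinearMap.ker (T - LinearMap.id) := by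
    ext x
    constructor
    · rintro ⟨u, hu, rfl⟩
      exact ⟨u.2, congrArg Subtype.val (LinearMap.mem_ker.1 hu)⟩
    · rintro ⟨hx, hx2⟩
      exact ⟨⟨x, hx⟩, Subtype.ext hx2, rfl⟩
  rw [← h1]
  exact (Submodule.finrank_map_subtype_eq U _).symm

variable {F : Type} [Field F] [Fintype F] {V : Type} [AddCommGroup V] [Module (ZMod 2) V] [Module.Finite (ZMod 2) V]
  {ρ : Representation (ZMod 2) (G3 F) V}

theorem fx_bot (g : G3 F) : Module.finrank (ZMod 2) (fx ρ g (⊥ : Submodule (ZMod 2) V)) = 0 := by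
  unfold fx
  rw [bot_inf_eq]
  exact finrank_bot _ _

/-- the dimension of an invariant subspace in terms of the fixed spaces -/
theorem wiel_fx {U : Submodule (ZMod 2) V} (hU : Inv ρ U) {g1 g2 : G3 F} (h1 : ρ g1 ^ 3 = 1) (h2 : ρ g2 ^ 3 = 1)
    (hc : ρ g1 * ρ g2 = ρ g2 * ρ g1) (hE : ∀ v ∈ U, ρ g1 v = v → ρ g2 v = v → v = 0) :
    Module.finrank (ZMod 2) U = Module.finrank (ZMod 2) (fx ρ g1 U) + Module.finrank (ZMod 2) (fx ρ g2 U) +
      Module.finrank (ZMod 2) (fx ρ (g1 * g2) U) + Module.finrank (ZMod 2) (fx ρ (g1 * g2 * g2) U) := by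
  have k1 : ∀ g, ∀ v ∈ U, ρ g v ∈ U := hU
  have e12 : (ρ g1).restrict (k1 g1) * (ρ g2).restrict (k1 g2) = (ρ (g1 * g2)).restrict (k1 _) := by
    ext v
    show ρ g1 (ρ g2 v) = ρ (g1 * g2) v
    rw [map_mul]
    rfl
  have e122 : (ρ g1).restrict (k1 g1) * (ρ g2).restrict (k1 g2) * (ρ g2).restrict (k1 g2) =
      (ρ (g1 * g2 * g2)).restrict (k1 _) := by
    rw [e12]
    ext v
    show ρ (g1 * g2) (ρ g2 v) = ρ (g1 * g2 * g2) v
    rw [map_mul _ (g1 * g2)]
    rfl
  have cube : ∀ g, ρ g ^ 3 = 1 → (ρ g).restrict (k1 g) ^ 3 = 1 := by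
    intro g hg
    ext v
    rw [Module.End.pow_restrict]
    show (ρ g ^ 3) v = v
    rw [hg]
    rfl
  have hcom : (ρ g1).restrict (k1 g1) * (ρ g2).restrict (k1 g2) = (ρ g2).restrict (k1 g2) * (ρ g1).restrict (k1 g1) := by
    ext v
    show (ρ g1 * ρ g2) v = (ρ g2 * ρ g1) v
    rw [hc]
  have key := Cfsg.Agent.H259.L34.wiel (k := ZMod 2) (by decide) (cube g1 h1) (cube g2 h2) hcom
  have hb : LinearMap.ker ((ρ g1).restrict (k1 g1) - LinearMap.id) ⊓ LinearMap.ker ((ρ g2).restrict (k1 g2) - LinearMap.id) =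
      ⊥ := by
    rw [eq_bot_iff]
    rintro v ⟨hv1, hv2⟩
    rw [Submodule.mem_bot]
    apply Subtype.ext
    refine hE v v.2 ?_ ?_
    · have h3 : (ρ g1).restrict (k1 g1) v - v = 0 := hv1
      exact congrArg Subtype.val (sub_eq_zero.1 h3)
    · have h3 : (ρ g2).restrict (k1 g2) v - v = 0 := hv2
      exact congrArg Subtype.val (sub_eq_zero.1 h3)
  rw [hb, finrank_bot, mul_zero, add_zero, e122, e12, finrank_ker_restrict, finrank_ker_restrict, finrank_ker_restrict,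
    finrank_ker_restrict] at key
  exact key

theorem num1 {a b c d n n7 a' b' c' d' : ℕ} (h : 192 = a + 16 * b + 9 * c + 64 * d) (hn : n = a + 4 * b + 3 * c + 22 * d)
    (h4 : 192 = n + n + n + n) (hn7 : n7 = 80 ∨ n7 = 38)
    (k : 248 = 192 + (a' + 16 * b' + 9 * c' + 64 * d')) (k3 : 86 = n + (a' + 4 * b' + 3 * c' + 22 * d'))
    (k7 : n7 = (a + 4 * b + 10 * d) + (a' + 4 * b' + 10 * d')) : False := by omega

/-- no invariant subspace of dimension 192 without a vector fixed by `E` -/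
theorem false_192 (hF : Fintype.card F = 4) (hc : CT ρ) {n5 n7 : ℕ} (hn7 : n7 = 80 ∨ n7 = 38)
    (hd : Dims ρ (⊤ : Submodule (ZMod 2) V) 248 86 n5 n7) {g1 g2 : G3 F}
    (ho : ∀ g ∈ ([g1, g2, g1 * g2, g1 * g2 * g2] : List (G3 F)), orderOf g = 3 ∧ g ∉ Subgroup.center (G3 F))
    (hcom : ρ g1 * ρ g2 = ρ g2 * ρ g1) {U : Submodule (ZMod 2) V} (hU : Inv ρ U)
    (h192 : Module.finrank (ZMod 2) U = 192) (hE : ∀ v ∈ U, ρ g1 v = v → ρ g2 v = v → v = 0) : False := by
  obtain ⟨a, b, c, d, p1, p3, p5, p7⟩ := Cfsg.Agent.H482.LF.PL hF hc (A := ⊥) (B := U)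
    (fun g w hw => by rw [(Submodule.mem_bot _).1 hw, map_zero]; exact Submodule.zero_mem _) hU bot_le
  obtain ⟨a', b', c', d', q1, q3, q5, q7⟩ := Cfsg.Agent.H482.LF.PL hF hc (A := U) (B := ⊤) hU
    (fun _ _ _ => Submodule.mem_top) le_top
  obtain ⟨g7, hg7⟩ := Cfsg.Agent.H592.L34.exists_order (F := F) hF (p := 7) (by norm_num) (by norm_num)
  have cube : ∀ g, orderOf g = 3 → ρ g ^ 3 = 1 := fun g hg => by
    have h3 := pow_orderOf_eq_one g
    rw [hg] at h3
    rw [← map_pow, h3, map_one]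
  have w := wiel_fx hU (cube g1 (ho g1 (by simp)).1) (cube g2 (ho g2 (by simp)).1) hcom hE
  have f : ∀ g ∈ ([g1, g2, g1 * g2, g1 * g2 * g2] : List (G3 F)), Module.finrank (ZMod 2) (fx ρ g U) =
      a + 4 * b + 3 * c + 22 * d := by
    intro g hg
    rw [p3 g (ho g hg).1 (ho g hg).2, fx_bot, zero_add]
  rw [f g1 (by simp), f g2 (by simp), f (g1 * g2) (by simp), f (g1 * g2 * g2) (by simp), h192] at w
  rw [finrank_bot, zero_add, h192] at p1
  rw [hd.1, h192] at q1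
  have q3' := q3 g1 (ho g1 (by simp)).1 (ho g1 (by simp)).2
  rw [hd.2.1 g1 (ho g1 (by simp)).1 (ho g1 (by simp)).2, f g1 (by simp)] at q3'
  have q7' := q7 g7 hg7
  rw [hd.2.2.2 g7 hg7, p7 g7 hg7, fx_bot, zero_add] at q7'
  exact num1 p1 rfl w hn7 q1 q3' q7'

/-- an operator commuting with `S`, semisimple, with kernel of dimension 56 containing the vectors fixed by `E` -/
theorem false_T (hF : Fintype.card F = 4) (hc : CT ρ) {n5 n7 : ℕ} (hn7 : n7 = 80 ∨ n7 = 38)
    (hd : Dims ρ (⊤ : Submodule (ZMod 2) V) 248 86 n5 n7) {g1 g2 : G3 F}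
    (ho : ∀ g ∈ ([g1, g2, g1 * g2, g1 * g2 * g2] : List (G3 F)), orderOf g = 3 ∧ g ∉ Subgroup.center (G3 F))
    (hcom : ρ g1 * ρ g2 = ρ g2 * ρ g1) (T : Module.End (ZMod 2) V) (hT : ∀ g v, T (ρ g v) = ρ g (T v))
    (h56 : Module.finrank (ZMod 2) (LinearMap.ker T) = 56) (hss : ∀ v, T (T v) = 0 → T v = 0)
    (hE : ∀ v, ρ g1 v = v → ρ g2 v = v → T v = 0) : False := by
  have h1 := LinearMap.finrank_range_add_finrank_ker T
  have h2 : Module.finrank (ZMod 2) V = 248 := by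
    rw [← hd.1]
    exact (finrank_top _ _).symm
  rw [h56, h2] at h1
  refine false_192 hF hc hn7 hd ho hcom (U := LinearMap.range T) ?_ (by omega) ?_
  · rintro g _ ⟨v, rfl⟩
    exact ⟨ρ g v, hT g v⟩
  · rintro _ ⟨v, rfl⟩ k1 k2
    exact hss v (hE _ k1 k2)

end Cfsg.Agent.H888.L34.E2e
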