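import Cfsg.Agent.H888.L34.Syl
import Cfsg.Agent.H691.L34.Def
import Cfsg.Agent.H939.L64.Base
import Cfsg.Agent.H955.L64.Irr
import Cfsg.Agent.LieClassical.FieldTransfer

/-!
# S5917 (`L₃(4)` in `E₈(2)`), G3: the group-theoretic frame

* `Sit H f` : `H` is a maximal subgroup of `E2 = E₈(2)`, `f : L₃(4) → H` the socle;
* `exists_sit`, `main_of` : it is enough to refute `Sit` for fields in `Type`;
* `mem_of_stab`, `mem_of_fix`, ... : stabilisers and pointwise stabilisers of `H`-stable subspaces of the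
  adjoint module lie in `H`, over `KK` (`LK`, `rE`) and over `ZMod 2` (`L2`, `a2`);
* `stab_*_all` : the same for `V ^ S`, and the bound 18 for elements commuting with `E = 3²`.
-/

set_option autoImplicit false
set_option maxRecDepth 100000
set_option linter.unusedSectionVars false

namespace Cfsg.Agent.H888.L34.Model

open Matrix Cfsg Cfsg.Lie Subgroup
open Cfsg.Agent.H939.L64 (KK E2 LK L2 a2 em aK rE rE_apply rE_mul rE_one rE_inv_self rE_self_inv rEq rEq_apply fixS brK
  rE_brK em_injective rE_inj finrank_LK frE frE_apply frE_smul frE_rE)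
open Cfsg.Agent.H691.L34 (G3)
open Cfsg.Agent.H942.E8Tab
open Cfsg.Agent.ChevalleyStructure.Elts Cfsg.Agent.GpExc.Field Cfsg.Agent.ChevalleyStructure.Good

abbrev P3 (F : Type) [Field F] : Type := ProjectiveSpecialLinearGroup (Fin 3) F

/-- the situation of S5917 -/
structure Sit {F : Type} [Field F] (H : Subgroup E2) (f : P3 F →* E2) : Prop where
  co : IsCoatom H
  inj : Function.Injective f
  le : ∀ s, f s ∈ H
  nor : ∀ h ∈ H, ∃ τ : P3 F ≃* P3 F, ∀ s, f (τ s) = h * f s * h⁻¹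
  /-- only the identity of `H` centralises the socle -/
  tri : ∀ g ∈ H, (∀ s, Commute g (f s)) → g = 1
  /-- at most 18 elements of `H` centralise a Sylow 3-subgroup of the socle -/
  cen : ∀ E : Subgroup (P3 F), Nat.card E = 9 →
    Nat.card ↥(H ⊓ centralizer ((E.map f : Subgroup E2) : Set E2)) ≤ 18

theorem exists_sit' {F : Type} [Field F] [Fintype F] (hF : Fintype.card F = 4) {G : Type} [Group G] [Finite G]
    (H : Subgroup G) (e : ↥(generalizedFittingSubgroup ↥H) ≃* P3 F) :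
    ∃ f : P3 F →* G, Function.Injective f ∧ (∀ s, f s ∈ H) ∧
      (∀ h ∈ H, ∃ τ : P3 F ≃* P3 F, ∀ s, f (τ s) = h * f s * h⁻¹) ∧
      (∀ g ∈ H, (∀ s, Commute g (f s)) → g = 1) ∧
      ∀ E : Subgroup (P3 F), Nat.card E = 9 →
        Nat.card ↥(H ⊓ centralizer ((E.map f : Subgroup G) : Set G)) ≤ 18 := by
  obtain ⟨hn, hC⟩ := Cfsg.Agent.H888.L34.centralizer_eq_bot hF e
  have key : ∀ E : Subgroup ↥H, E ≤ generalizedFittingSubgroup ↥H → Nat.card E = 9 →
      Nat.card (centralizer (E : Set ↥H)) ≤ 18 := fun E h1 h2 =>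
    Cfsg.Agent.H888.L34.card_centralizer_le' hF e E h1 h2
  generalize hSdef : generalizedFittingSubgroup ↥H = S at e hn hC key
  let f₀ : P3 F →* ↥H := S.subtype.comp e.symm.toMonoidHom
  have hf₀ : Function.Injective f₀ := (Subgroup.subtype_injective S).comp e.symm.injective
  have hr : ∀ x ∈ S, ∃ s, f₀ s = x := fun x hx => ⟨e ⟨x, hx⟩, by simp [f₀]⟩
  have hm : ∀ s, f₀ s ∈ S := fun s => (e.symm s).2
  refine ⟨H.subtype.comp f₀, (Subgroup.subtype_injective H).comp hf₀, fun s => (f₀ s).2, ?_, ?_, ?_⟩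
  · intro h hh
    let h' : ↥H := ⟨h, hh⟩
    refine ⟨(e.symm.trans (MulAut.conjNormal h' : MulAut S)).trans e, fun s => ?_⟩
    change ((e.symm (e (MulAut.conjNormal h' (e.symm s))) : S) : G) = _
    rw [MulEquiv.symm_apply_apply, MulAut.conjNormal_apply]
    rfl
  · intro h hh hc
    have h1 : (⟨h, hh⟩ : ↥H) ∈ centralizer (S : Set ↥H) := by
      rw [mem_centralizer_iff]
      intro x hx
      obtain ⟨s, rfl⟩ := hr x hx
      exact Subtype.ext (hc s).eq.symm
    rw [hC, mem_bot] at h1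
    exact congrArg Subtype.val h1
  · intro E hE
    have h1 := key (E.map f₀) (by rintro _ ⟨s, -, rfl⟩; exact hm s)
      (by rw [Subgroup.card_map_of_injective hf₀, hE])
    have h2 : H ⊓ centralizer ((E.map (H.subtype.comp f₀) : Subgroup G) : Set G) =
        (centralizer ((E.map f₀ : Subgroup ↥H) : Set ↥H)).map H.subtype := by
      ext x
      constructor
      · rintro ⟨hx, hx2⟩
        refine ⟨⟨x, hx⟩, ?_, rfl⟩
        rw [SetLike.mem_coe, mem_centralizer_iff]
        rintro _ ⟨s, hs', rfl⟩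
        exact Subtype.ext (mem_centralizer_iff.1 hx2 _ ⟨s, hs', rfl⟩)
      · rintro ⟨x, hx, rfl⟩
        refine ⟨x.2, mem_centralizer_iff.2 ?_⟩
        rintro _ ⟨s, hs', rfl⟩
        exact congrArg Subtype.val (mem_centralizer_iff.1 hx _ ⟨s, hs', rfl⟩)
    rw [h2, Subgroup.card_map_of_injective (Subgroup.subtype_injective H)]
    exact h1

theorem exists_sit {F : Type} [Field F] [Fintype F] (hF : Fintype.card F = 4) {H : Subgroup E2} (hco : IsCoatom H)
    (e : ↥(generalizedFittingSubgroup ↥H) ≃* P3 F) : ∃ f : P3 F →* E2, Sit H f := by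
  obtain ⟨f, h1, h2, h3, h4, h5⟩ := exists_sit' hF H e
  exact ⟨f, hco, h1, h2, h3, h4, h5⟩

/-- it is enough to refute `Sit` for fields in `Type` -/
theorem main_of (h0 : ∀ {F : Type} [Field F] [Fintype F], Fintype.card F = 4 → ∀ (H : Subgroup E2) (f : P3 F →* E2),
    Sit H f → False)
    {F : Type*} [Field F] [Fintype F] (hF : Fintype.card F = 4) (H : Subgroup E2)
    (hH : Nonempty (↥(generalizedFittingSubgroup ↥H) ≃* ProjectiveSpecialLinearGroup (Fin 3) F)) : ¬ IsCoatom H := by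
  classical
  intro hco
  obtain ⟨e⟩ := hH
  have : Fintype (GaloisField 2 2) := Fintype.ofFinite _
  have h4 : Fintype.card (GaloisField 2 2) = 4 := by
    rw [← Nat.card_eq_fintype_card, GaloisField.card 2 2 (by norm_num)]
    norm_num
  obtain ⟨f, hf⟩ := exists_sit h4 hco (e.trans (Cfsg.Agent.LieClassical.FieldTransfer.pslCongr
    (FiniteField.ringEquivOfCardEq (hF.trans h4.symm))))
  exact h0 h4 H f hf

variable {F : Type} [Field F] {H : Subgroup E2} {f : P3 F →* E2}

/-- the socle is not trivial -/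
theorem Sit.exists_ne [Fintype F] (S : Sit H f) (hF : Fintype.card F = 4) : ∃ s, f s ≠ 1 := by
  by_contra hc
  push Not at hc
  have h1 : Subsingleton (P3 F) := ⟨fun a b => S.inj ((hc a).trans (hc b).symm)⟩
  have h2 : Nat.card (P3 F) = 20160 := Cfsg.Agent.H888.L34.card_PSF hF
  rw [Nat.card_eq_one_iff_unique.2 ⟨h1, ⟨1⟩⟩] at h2
  omega

/-! ### over `KK` -/

theorem mem_fix {v : LK} : v ∈ fixS (rE.comp f) ↔ ∀ s, rE (f s) v = v := Iff.rfl

theorem fix_stable (S : Sit H f) {h : E2} (hh : h ∈ H) {v : LK} (hv : v ∈ fixS (rE.comp f)) :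
    rE h v ∈ fixS (rE.comp f) := by
  intro s
  show rE (f s) (rE h v) = rE h v
  obtain ⟨τ, hτ⟩ := S.nor h hh
  have h1 : f s * h = h * f (τ.symm s) := by
    have := hτ (τ.symm s)
    rw [MulEquiv.apply_symm_apply] at this
    rw [this, inv_mul_cancel_right]
  rw [← rE_mul, h1, rE_mul, mem_fix.1 hv]

/-- stabilisers -/
theorem mem_of_stab (S : Sit H f) {A : Submodule KK LK} (h0 : A ≠ ⊥) (h1 : A ≠ ⊤)
    (hH : ∀ h ∈ H, ∀ v ∈ A, rE h v ∈ A) {g : E2} (hg : ∀ v ∈ A, rE g v ∈ A) : g ∈ H := by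
  have key : ∀ x : E2, (∀ v ∈ A, rE x v ∈ A) → ∀ v ∈ A, rE x⁻¹ v ∈ A := by
    intro x hx v hv
    have h2 : A.map (rEq x).toLinearMap = A := by
      apply Submodule.eq_of_le_of_finrank_eq
      · rintro _ ⟨w, hw, rfl⟩
        exact hx w hw
      · exact LinearEquiv.finrank_map_eq (rEq x) A
    rw [← h2] at hv
    obtain ⟨w, hw, rfl⟩ := hv
    show rE x⁻¹ (rE x w) ∈ A
    rw [rE_inv_self]
    exact hw
  let K : Subgroup E2 :=
    { carrier := {x | ∀ v ∈ A, rE x v ∈ A}
      mul_mem' := fun {a b} ha hb v hv => by rw [rE_mul]; exact ha _ (hb v hv)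
      one_mem' := fun v hv => by rw [rE_one]; exact hv
      inv_mem' := fun {a} ha => key a ha }
  by_contra hgH
  have h2 : H < K := by
    refine lt_of_le_of_ne hH fun h => hgH ?_
    rw [h]
    exact hg
  have h3 := S.co.2 K h2
  rcases Cfsg.Agent.H955.L64.IRR A (fun x v hv => (by rw [h3]; trivial : x ∈ K) v hv) with h4 | h4
  · exact h0 h4
  · exact h1 h4

/-- the fixed space of the socle is proper -/
theorem fix_ne_top [Fintype F] (S : Sit H f) (hF : Fintype.card F = 4) : fixS (rE.comp f) ≠ ⊤ := by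
  intro h
  obtain ⟨s, hs⟩ := S.exists_ne hF
  exact hs (rE_inj fun v => by
    have h3 : v ∈ fixS (rE.comp f) := by rw [h]; trivial
    exact h3 s)

/-- **END GAME**: if the socle fixes a non-zero vector then every element stabilising `V ^ S` is in `H` -/
theorem mem_of_stab_fix [Fintype F] (S : Sit H f) (hF : Fintype.card F = 4) (h0 : fixS (rE.comp f) ≠ ⊥) {g : E2}
    (hg : ∀ v ∈ fixS (rE.comp f), rE g v ∈ fixS (rE.comp f)) : g ∈ H :=
  mem_of_stab S h0 (fix_ne_top S hF) (fun _ hh _ hv => fix_stable S hh hv) hg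

/-- in particular every element fixing `V ^ S` pointwise -/
theorem mem_of_fix [Fintype F] (S : Sit H f) (hF : Fintype.card F = 4) (h0 : fixS (rE.comp f) ≠ ⊥) {g : E2}
    (hg : ∀ v ∈ fixS (rE.comp f), rE g v = v) : g ∈ H :=
  mem_of_stab_fix S hF h0 fun v hv => by rw [hg v hv]; exact hv

/-- a set of elements of `H` commuting with a Sylow 3-subgroup of the socle has at most 18 elements -/
theorem ncard_le (S : Sit H f) {E : Subgroup (P3 F)} (hE : Nat.card E = 9) {X : Set E2} (hX : ∀ g ∈ X, g ∈ H)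
    (hc : ∀ g ∈ X, ∀ s ∈ E, Commute g (f s)) : X.ncard ≤ 18 := by
  refine le_trans ?_ (S.cen E hE)
  have h1 : X ⊆ ((H ⊓ centralizer ((E.map f : Subgroup E2) : Set E2) : Subgroup E2) : Set E2) := by
    intro g hg
    refine ⟨hX g hg, mem_centralizer_iff.2 ?_⟩
    rintro _ ⟨s, hs, rfl⟩
    exact (hc g hg s hs).eq.symm
  exact (Set.ncard_le_ncard h1 (Set.toFinite _)).trans_eq (Nat.card_coe_set_eq _).symm

/-- the contradiction: more than 18 elements commuting with `E` and stabilising `V ^ S` -/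
theorem false_of_ncard [Fintype F] (S : Sit H f) (hF : Fintype.card F = 4) {E : Subgroup (P3 F)} (hE : Nat.card E = 9)
    (h0 : fixS (rE.comp f) ≠ ⊥) {X : Set E2} (hX : 18 < X.ncard) (hc : ∀ g ∈ X, ∀ s ∈ E, Commute g (f s))
    (hg : ∀ g ∈ X, ∀ v ∈ fixS (rE.comp f), rE g v ∈ fixS (rE.comp f)) : False :=
  absurd (ncard_le S hE (fun g hgX => mem_of_stab_fix S hF h0 (hg g hgX)) hc) (not_le.2 hX)

/-! ### over `ZMod 2` -/

/-- the action of `E₈(2)` on its natural module over `ZMod 2` -/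
def r2 : Representation (ZMod 2) E2 L2 where
  toFun g := Matrix.mulVecLin (((g : GL chevE8.Idx (ZMod 2)) : Matrix chevE8.Idx chevE8.Idx (ZMod 2)))
  map_one' := LinearMap.ext fun v => Matrix.one_mulVec v
  map_mul' a b := LinearMap.ext fun v => (Matrix.mulVec_mulVec v _ _).symm

theorem r2_apply (g : E2) (v : L2) : r2 g v = a2 g v := rfl

theorem a2_mul (g h : E2) (v : L2) : a2 (g * h) v = a2 g (a2 h v) := by
  rw [← r2_apply, map_mul]
  rfl

theorem a2_one (v : L2) : a2 1 v = v := by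
  rw [← r2_apply, map_one]
  rfl

theorem a2_inv_self (g : E2) (v : L2) : a2 g⁻¹ (a2 g v) = v := by rw [← a2_mul, inv_mul_cancel, a2_one]

theorem a2_self_inv (g : E2) (v : L2) : a2 g (a2 g⁻¹ v) = v := by rw [← a2_mul, mul_inv_cancel, a2_one]

/-- an element as a linear automorphism -/
def r2q (g : E2) : L2 ≃ₗ[ZMod 2] L2 :=
  LinearEquiv.ofLinearMap (r2 g) (r2 g⁻¹) (LinearMap.ext fun v => a2_self_inv g v) (LinearMap.ext fun v => a2_inv_self g v)

/-- the module over `ZMod 2` is irreducible -/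
theorem IRR2 (W : Submodule (ZMod 2) L2) (hW : ∀ g : E2, ∀ x ∈ W, a2 g x ∈ W) : W = ⊥ ∨ W = ⊤ := by
  refine Cfsg.Agent.H955.L64.irr_gen W fun r w hw => ?_
  have h1 : a2 (Cfsg.Agent.H955.L64.xe r) w = chevE8.xMat (ZMod 2) r 1 *ᵥ w := by
    show (((Cfsg.Agent.H955.L64.xe r : E2) : GL chevE8.Idx (ZMod 2)) : Matrix chevE8.Idx chevE8.Idx (ZMod 2)) *ᵥ w = _
    unfold Cfsg.Agent.H955.L64.xe
    rw [coe_xG, x_eq_xMat r.val r.isLt]
  rw [← h1]
  exact hW _ w hw

/-- the module over `ZMod 2` is faithful -/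
theorem a2_faithful {g : E2} (h : ∀ v : L2, a2 g v = v) : g = 1 := by
  apply Subtype.ext
  apply Units.ext
  show (((g : E2) : GL chevE8.Idx (ZMod 2)) : Matrix chevE8.Idx chevE8.Idx (ZMod 2)) = 1
  ext i j
  have h2 := congrFun (h (Pi.single j 1)) i
  rw [a2, Matrix.mulVec_single_one] at h2
  rw [Matrix.one_apply]
  refine Eq.trans h2 ?_
  rw [Pi.single_apply]

/-- the fixed vectors of the socle over `ZMod 2` -/
def fix2 (f : P3 F →* E2) : Submodule (ZMod 2) L2 where
  carrier := {v | ∀ s, a2 (f s) v = v}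
  add_mem' := fun {a b} ha hb s => by rw [← r2_apply, map_add, r2_apply, r2_apply, ha s, hb s]
  zero_mem' := fun s => by rw [← r2_apply, map_zero]
  smul_mem' := fun c v hv s => by rw [← r2_apply, map_smul, r2_apply, hv s]

theorem mem_fix2 {v : L2} : v ∈ fix2 f ↔ ∀ s, a2 (f s) v = v := Iff.rfl

theorem fix2_stable (S : Sit H f) {h : E2} (hh : h ∈ H) {v : L2} (hv : v ∈ fix2 f) : a2 h v ∈ fix2 f := by
  intro s
  obtain ⟨τ, hτ⟩ := S.nor h hh
  have h1 : f s * h = h * f (τ.symm s) := by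
    have := hτ (τ.symm s)
    rw [MulEquiv.apply_symm_apply] at this
    rw [this, inv_mul_cancel_right]
  rw [← a2_mul, h1, a2_mul, hv]

/-- stabilisers over `ZMod 2` -/
theorem mem_of_stab2 (S : Sit H f) {A : Submodule (ZMod 2) L2} (h0 : A ≠ ⊥) (h1 : A ≠ ⊤)
    (hH : ∀ h ∈ H, ∀ v ∈ A, a2 h v ∈ A) {g : E2} (hg : ∀ v ∈ A, a2 g v ∈ A) : g ∈ H := by
  have key : ∀ x : E2, (∀ v ∈ A, a2 x v ∈ A) → ∀ v ∈ A, a2 x⁻¹ v ∈ A := by
    intro x hx v hv
    have h2 : A.map (r2q x).toLinearMap = A := by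
      apply Submodule.eq_of_le_of_finrank_eq
      · rintro _ ⟨w, hw, rfl⟩
        exact hx w hw
      · exact LinearEquiv.finrank_map_eq (r2q x) A
    rw [← h2] at hv
    obtain ⟨w, hw, rfl⟩ := hv
    show a2 x⁻¹ (a2 x w) ∈ A
    rw [a2_inv_self]
    exact hw
  let K : Subgroup E2 :=
    { carrier := {x | ∀ v ∈ A, a2 x v ∈ A}
      mul_mem' := fun {a b} ha hb v hv => by rw [a2_mul]; exact ha _ (hb v hv)
      one_mem' := fun v hv => by rw [a2_one]; exact hv
      inv_mem' := fun {a} ha => key a ha }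
  by_contra hgH
  have h2 : H < K := by
    refine lt_of_le_of_ne hH fun h => hgH ?_
    rw [h]
    exact hg
  have h3 := S.co.2 K h2
  rcases IRR2 A (fun x v hv => (by rw [h3]; trivial : x ∈ K) v hv) with h4 | h4
  · exact h0 h4
  · exact h1 h4

/-- the fixed space of the socle is proper -/
theorem fix2_ne_top [Fintype F] (S : Sit H f) (hF : Fintype.card F = 4) : fix2 f ≠ ⊤ := by
  intro h
  obtain ⟨s, hs⟩ := S.exists_ne hF
  exact hs (a2_faithful fun v => by
    have h3 : v ∈ fix2 f := by rw [h]; trivial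
    exact h3 s)

/-- pointwise stabilisers of arbitrary `H`-stable sets `≠ 0` -/
theorem mem_of_fix2_set (S : Sit H f) {X : Set L2} (h0 : ∃ v ∈ X, v ≠ 0) (hH : ∀ h ∈ H, ∀ v ∈ X, a2 h v ∈ X)
    {g : E2} (hg : ∀ v ∈ X, a2 g v = v) : g ∈ H := by
  let K : Subgroup E2 :=
    { carrier := {x | ∀ v ∈ X, a2 x v = v}
      mul_mem' := fun {a b} ha hb v hv => by rw [a2_mul, hb v hv, ha v hv]
      one_mem' := fun v _ => a2_one v
      inv_mem' := fun {a} ha v hv => by
        have := ha v hv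
        conv_lhs => rw [← this]
        exact a2_inv_self a v }
  by_cases hK : K = ⊥
  · have h1 : g ∈ K := hg
    rw [hK, mem_bot] at h1
    rw [h1]
    exact H.one_mem
  have hn : H ≤ Subgroup.normalizer (K : Set E2) := by
    intro h hh
    have key : ∀ h ∈ H, ∀ k ∈ K, h * k * h⁻¹ ∈ K := by
      intro h hh k hk w hw
      rw [a2_mul, a2_mul, hk _ (hH _ (H.inv_mem hh) w hw), a2_self_inv]
    rw [Subgroup.mem_normalizer_iff]
    intro k
    constructor
    · exact key h hh k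
    · intro hk
      have := key _ (H.inv_mem hh) _ hk
      have e : h⁻¹ * (h * k * h⁻¹) * h⁻¹⁻¹ = k := by group
      rwa [e] at this
  obtain ⟨v, hv, hv0⟩ := h0
  exact Cfsg.Agent.H955.L64.g2_gen r2 (fun W hW => IRR2 W hW) (fun g hg => a2_faithful hg) S.co hn hK
    ⟨v, hv0, fun k hk => hk v hv⟩ hg

/-- **END GAME** over `ZMod 2` -/
theorem mem_of_stab_fix2 [Fintype F] (S : Sit H f) (hF : Fintype.card F = 4) (h0 : fix2 f ≠ ⊥) {g : E2}
    (hg : ∀ v ∈ fix2 f, a2 g v ∈ fix2 f) : g ∈ H :=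
  mem_of_stab2 S h0 (fix2_ne_top S hF) (fun _ hh _ hv => fix2_stable S hh hv) hg

theorem false_of_ncard2 [Fintype F] (S : Sit H f) (hF : Fintype.card F = 4) {E : Subgroup (P3 F)} (hE : Nat.card E = 9)
    (h0 : fix2 f ≠ ⊥) {X : Set E2} (hX : 18 < X.ncard) (hc : ∀ g ∈ X, ∀ s ∈ E, Commute g (f s))
    (hg : ∀ g ∈ X, ∀ v ∈ fix2 f, a2 g v ∈ fix2 f) : False :=
  absurd (ncard_le S hE (fun g hgX => mem_of_stab_fix2 S hF h0 (hg g hgX)) hc) (not_le.2 hX)

/-! ### the representation of `SL₃(4)` -/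

/-- `SL₃(4)` on the module over `ZMod 2` -/
def rho (f : P3 F →* E2) : Representation (ZMod 2) (G3 F) L2 :=
  (r2.comp f).comp (QuotientGroup.mk' (Subgroup.center (G3 F)))

theorem rho_apply (g : G3 F) (v : L2) : rho f g v = a2 (f (QuotientGroup.mk' (Subgroup.center (G3 F)) g)) v := rfl

theorem mem_fixAll {v : L2} : v ∈ Cfsg.Agent.H691.L34.fixAll (rho f) ↔ v ∈ fix2 f := by
  constructor
  · intro h s
    obtain ⟨g, rfl⟩ := QuotientGroup.mk'_surjective _ s
    exact h g
  · intro h g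
    exact h _

theorem fixAll_eq : Cfsg.Agent.H691.L34.fixAll (rho f) = fix2 f := by
  ext v
  exact mem_fixAll

end Cfsg.Agent.H888.L34.Model
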