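import Cfsg.Agent.H888.L34.Fix
import Cfsg.Agent.S1313
import Cfsg.Agent.S0249
import Mathlib.GroupTheory.Sylow

/-!
# S5917, part I (group side): `|C_H(E)| ≤ 18` for a Sylow 3-subgroup `E` of a normal `L3(4)` (helper888)
-/

set_option autoImplicit false

namespace Cfsg.Agent.H888.L34

open scoped Pointwise

variable {F : Type*} [Field F]

local notation "SLF" => Matrix.SpecialLinearGroup (Fin 3) F
local notation "PSF" => Matrix.ProjectiveSpecialLinearGroup (Fin 3) F
local notation "MF" => Matrix (Fin 3) (Fin 3) F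

/-- `diag(1, ω, ω²)` -/
def x0 (ω : F) (h : ω ^ 3 = 1) : SLF := ⟨Matrix.diagonal ![1, ω, ω ^ 2], by
  rw [Matrix.det_diagonal, Fin.prod_univ_three]
  simp only [Matrix.cons_val_zero, Matrix.cons_val_one, Matrix.cons_val]
  rw [one_mul, ← h]; ring⟩

/-- the permutation matrix of a 3-cycle -/
def y0 : SLF := ⟨!![0, 1, 0; 0, 0, 1; 1, 0, 0], by rw [Matrix.det_fin_three]; simp⟩

theorem pr0 {ω : F} (h1 : ω ^ 2 + ω + 1 = 0) (h3 : ω ^ 3 = 1) (hne : ω ≠ 1) (h0 : ω ≠ 0) :
    Pr (y0 : SLF) (x0 ω h3) ω := by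
  refine ⟨h1, h3, ?_, ?_⟩
  · apply Subtype.ext
    rw [coe_sc_mul, Matrix.SpecialLinearGroup.coe_mul, Matrix.SpecialLinearGroup.coe_mul]
    change !![0, 1, 0; 0, 0, 1; 1, 0, 0] * Matrix.diagonal ![1, ω, ω ^ 2] =
      ω • (Matrix.diagonal ![1, ω, ω ^ 2] * !![0, 1, 0; 0, 0, 1; 1, 0, 0])
    ext i j
    have h4 : ω * (ω * ω) = 1 := by rw [← h3]; ring
    fin_cases i <;> fin_cases j <;> simp [Matrix.mul_apply, Matrix.diagonal, pow_two, h4]
  · intro K hy hx
    change K * !![0, 1, 0; 0, 0, 1; 1, 0, 0] = !![0, 1, 0; 0, 0, 1; 1, 0, 0] * K at hy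
    change K * Matrix.diagonal ![1, ω, ω ^ 2] = Matrix.diagonal ![1, ω, ω ^ 2] * K at hx
    have e : ∀ i j : Fin 3, K i j * (![1, ω, ω ^ 2] : Fin 3 → F) j = (![1, ω, ω ^ 2] : Fin 3 → F) i * K i j := by
      intro i j
      have := congrFun (congrFun hx i) j
      rwa [Matrix.mul_diagonal, Matrix.diagonal_mul] at this
    have hd : ∀ i j : Fin 3, (![1, ω, ω ^ 2] : Fin 3 → F) i ≠ (![1, ω, ω ^ 2] : Fin 3 → F) j → K i j = 0 := by
      intro i j hij
      have h5 := e i j
      rw [mul_comm] at h5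
      have h6 : ((![1, ω, ω ^ 2] : Fin 3 → F) i - (![1, ω, ω ^ 2] : Fin 3 → F) j) * K i j = 0 := by
        rw [sub_mul, h5, sub_self]
      exact (mul_eq_zero.1 h6).resolve_left (sub_ne_zero.2 hij)
    have hω2 : ω ^ 2 ≠ 1 := by
      intro h; rw [h] at h1
      apply hne
      have : ω ^ 3 = ω * ω ^ 2 := by ring
      rw [h3, h, mul_one] at this
      exact this.symm
    have hω3 : ω ^ 2 ≠ ω := by
      intro h
      apply hne
      have : ω * (ω - 1) = 0 := by rw [mul_sub, mul_one, ← pow_two, h, sub_self]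
      exact sub_eq_zero.1 ((mul_eq_zero.1 this).resolve_left h0)
    have k01 : K 0 1 = 0 := hd 0 1 (by simpa using hne.symm)
    have k02 : K 0 2 = 0 := hd 0 2 (by simpa using hω2.symm)
    have k10 : K 1 0 = 0 := hd 1 0 (by simpa using hne)
    have k12 : K 1 2 = 0 := hd 1 2 (by simpa using hω3.symm)
    have k20 : K 2 0 = 0 := hd 2 0 (by simpa using hω2)
    have k21 : K 2 1 = 0 := hd 2 1 (by simpa using hω3)
    have c01 := congrFun (congrFun hy 0) 1
    have c12 := congrFun (congrFun hy 1) 2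
    simp [Matrix.mul_apply, Fin.sum_univ_three] at c01 c12
    refine ⟨K 0 0, ?_⟩
    ext i j
    fin_cases i <;> fin_cases j <;>
      simp [k01, k02, k10, k12, k20, k21, ← c01, ← c12]


theorem x0_pow (ω : F) (h : ω ^ 3 = 1) : (x0 ω h) ^ 3 = 1 := by
  apply Subtype.ext
  rw [Matrix.SpecialLinearGroup.coe_pow]
  change Matrix.diagonal ![1, ω, ω ^ 2] ^ 3 = (1 : MF)
  have h6 : (ω ^ 2) ^ 3 = 1 := by rw [← pow_mul, mul_comm, pow_mul, h, one_pow]
  rw [Matrix.diagonal_pow, ← Matrix.diagonal_one]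
  congr 1
  ext i
  fin_cases i <;> simp [h, h6]

theorem y0_pow : (y0 : SLF) ^ 3 = 1 := by
  apply Subtype.ext
  rw [Matrix.SpecialLinearGroup.coe_pow]
  change !![0, 1, 0; 0, 0, 1; 1, 0, 0] ^ 3 = (1 : MF)
  rw [pow_succ, pow_two]
  ext i j
  fin_cases i <;> fin_cases j <;> simp [Matrix.mul_apply, Fin.sum_univ_three]

theorem mk_sc (r : F) (h : r ^ 3 = 1) : (QuotientGroup.mk (sc r h) : PSF) = 1 := by
  rw [QuotientGroup.eq_one_iff]
  rw [Subgroup.mem_center_iff]
  intro g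
  exact (sc_comm r h g).symm

theorem closure_pair {G : Type*} [Group G] {a b : G} (hab : a * b = b * a) (ha : a ^ 3 = 1) (hb : b ^ 3 = 1) :
    IsPGroup 3 (Subgroup.closure ({a, b} : Set G)) := by
  have hcom : ∀ x ∈ ({a, b} : Set G), ∀ y ∈ ({a, b} : Set G), x * y = y * x := by
    rintro x (rfl | rfl) y (rfl | rfl)
    · rfl
    · exact hab
    · exact hab.symm
    · rfl
  have h1 : Subgroup.closure ({a, b} : Set G) ≤ Subgroup.centralizer ({a, b} : Set G) := by
    rw [Subgroup.closure_le]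
    intro x hx
    exact Subgroup.mem_centralizer_iff.2 fun y hy => hcom y hy x hx
  have h2 : Subgroup.closure ({a, b} : Set G) ≤
      Subgroup.centralizer ((Subgroup.closure ({a, b} : Set G) : Subgroup G) : Set G) := by
    rw [Subgroup.closure_le]
    intro x hx
    refine Subgroup.mem_centralizer_iff.2 fun y hy => ?_
    exact (Subgroup.mem_centralizer_iff.1 (h1 hy) x hx).symm
  have h3 : ∀ g ∈ Subgroup.closure ({a, b} : Set G), g ^ 3 = 1 := by
    intro g hg
    induction hg using Subgroup.closure_induction with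
    | mem x hx =>
      rcases hx with rfl | rfl
      · exact ha
      · exact hb
    | one => exact one_pow 3
    | mul u v hu hv hu3 hv3 =>
      have hc : Commute u v := (Subgroup.mem_centralizer_iff.1 (h2 hv) u hu)
      rw [hc.mul_pow, hu3, hv3, one_mul]
    | inv u _ hu3 => rw [inv_pow, hu3, inv_one]
  intro g
  exact ⟨1, Subtype.ext (by rw [pow_one]; exact h3 g.1 g.2)⟩

theorem conj_pr {x y g : Matrix.SpecialLinearGroup (Fin 3) F} {ω : F} (h : Pr x y ω) :
    Pr (g * x * g⁻¹) (g * y * g⁻¹) ω := by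
  refine ⟨h.om, h.o3, ?_, ?_⟩
  · have h1 := h.xy
    calc g * x * g⁻¹ * (g * y * g⁻¹) = g * (x * y) * g⁻¹ := by group
      _ = (g * sc ω h.o3) * (y * x) * g⁻¹ := by rw [h1]; group
      _ = (sc ω h.o3 * g) * (y * x) * g⁻¹ := by rw [sc_comm ω h.o3 g]
      _ = _ := by group
  · intro K hx hy
    have key : ∀ z : SLF, K * ((g * z * g⁻¹ : SLF) : MF) = ((g * z * g⁻¹ : SLF) : MF) * K →
        (((g⁻¹ : SLF) : MF) * K * (g : MF)) * (z : MF) = (z : MF) * (((g⁻¹ : SLF) : MF) * K * (g : MF)) := by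
      intro z hz
      have e1 : ((g⁻¹ : SLF) : MF) * (g : MF) = 1 := by
        rw [← Matrix.SpecialLinearGroup.coe_mul, inv_mul_cancel]; rfl
      rw [Matrix.SpecialLinearGroup.coe_mul, Matrix.SpecialLinearGroup.coe_mul] at hz
      calc (((g⁻¹ : SLF) : MF) * K * (g : MF)) * (z : MF)
          = ((g⁻¹ : SLF) : MF) * (K * ((g : MF) * (z : MF) * (((g⁻¹ : SLF) : MF)))) * (g : MF) := by
            simp only [mul_assoc]; rw [e1, mul_one]
        _ = ((g⁻¹ : SLF) : MF) * (((g : MF) * (z : MF) * (((g⁻¹ : SLF) : MF))) * K) * (g : MF) := by rw [hz]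
        _ = (((g⁻¹ : SLF) : MF) * (g : MF)) * (z : MF) * (((g⁻¹ : SLF) : MF) * K * (g : MF)) := by
            simp only [mul_assoc]
        _ = _ := by rw [e1, one_mul]
    obtain ⟨k, hk⟩ := h.irr _ (key x hx) (key y hy)
    refine ⟨k, ?_⟩
    have e2 : (g : MF) * ((g⁻¹ : SLF) : MF) = 1 := by
      rw [← Matrix.SpecialLinearGroup.coe_mul, mul_inv_cancel]; rfl
    calc K = ((g : MF) * ((g⁻¹ : SLF) : MF)) * K * ((g : MF) * ((g⁻¹ : SLF) : MF)) := by rw [e2, one_mul, mul_one]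
      _ = (g : MF) * (((g⁻¹ : SLF) : MF) * K * (g : MF)) * ((g⁻¹ : SLF) : MF) := by simp only [mul_assoc]
      _ = _ := by rw [hk, Matrix.mul_smul, Matrix.smul_mul, mul_one, e2]

theorem card_PSF [Fintype F] (hF : Fintype.card F = 4) : Nat.card PSF = 20160 := by
  have h := Cfsg.Agent.S0243.result hF 3 (by norm_num)
  rw [Fin.prod_univ_three] at h
  norm_num at h
  omega

theorem card_syl [Fintype F] (hF : Fintype.card F = 4) (Q : Sylow 3 PSF) : Nat.card (Q : Subgroup PSF) ≤ 9 := by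
  have _ : Fact (Nat.Prime 3) := ⟨Nat.prime_three⟩
  obtain ⟨n, hn⟩ := IsPGroup.iff_card.1 Q.isPGroup'
  have h1 : Nat.card (Q : Subgroup PSF) ∣ Nat.card PSF := Subgroup.card_subgroup_dvd_card _
  rw [card_PSF hF, hn] at h1
  rw [hn]
  by_contra hcon
  have h2 : 3 ≤ n := by
    by_contra h
    have : n ≤ 2 := by omega
    exact hcon (Nat.pow_le_pow_right (by norm_num) this)
  have h3 : 3 ^ 3 ∣ 20160 := (pow_dvd_pow 3 h2).trans h1
  norm_num at h3

/-- a Sylow 3-subgroup of `L3(4)` contains a pair -/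
theorem exists_pr [Fintype F] (hF : Fintype.card F = 4) (E : Subgroup PSF) (hE : Nat.card E = 9) :
    ∃ (x y : SLF) (ω : F), Pr x y ω ∧ (QuotientGroup.mk x : PSF) ∈ E ∧ (QuotientGroup.mk y : PSF) ∈ E := by
  have _ : Fact (Nat.Prime 3) := ⟨Nat.prime_three⟩
  obtain ⟨ω, h0, hne, h3, h1⟩ := exists_omega hF
  have hp := pr0 h1 h3 hne h0
  have hcomm : (QuotientGroup.mk (y0 : SLF) : PSF) * QuotientGroup.mk (x0 ω h3) =
      QuotientGroup.mk (x0 ω h3) * QuotientGroup.mk (y0 : SLF) := by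
    rw [← QuotientGroup.mk_mul, ← QuotientGroup.mk_mul, hp.xy, QuotientGroup.mk_mul, mk_sc, one_mul]
  have hQ0 := closure_pair hcomm (by rw [← QuotientGroup.mk_pow, y0_pow, QuotientGroup.mk_one])
    (by rw [← QuotientGroup.mk_pow, x0_pow, QuotientGroup.mk_one])
  obtain ⟨Q, hQ⟩ := hQ0.exists_le_sylow
  have hE3 : IsPGroup 3 E := IsPGroup.of_card (n := 2) (by rw [hE]; norm_num)
  obtain ⟨Q', hQ'⟩ := hE3.exists_le_sylow
  have hEQ : E = (Q' : Subgroup PSF) :=
    Subgroup.eq_of_le_of_card_ge hQ' (by rw [hE]; exact card_syl hF Q')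
  obtain ⟨g, hg⟩ := MulAction.exists_smul_eq PSF Q Q'
  obtain ⟨s, rfl⟩ := QuotientGroup.mk_surjective g
  have hmem : ∀ z : SLF, (QuotientGroup.mk z : PSF) ∈ Subgroup.closure
      ({QuotientGroup.mk (y0 : SLF), QuotientGroup.mk (x0 ω h3)} : Set PSF) →
      (QuotientGroup.mk (s * z * s⁻¹) : PSF) ∈ E := by
    intro z hz
    rw [hEQ, ← hg]
    change _ ∈ (MulAut.conj (QuotientGroup.mk s : PSF)) • (Q : Subgroup PSF)
    exact Subgroup.smul_mem_pointwise_smul _ (MulAut.conj (QuotientGroup.mk s : PSF)) _ (hQ hz)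
  exact ⟨s * y0 * s⁻¹, s * x0 ω h3 * s⁻¹, ω, conj_pr hp, hmem _ (Subgroup.subset_closure (Or.inl rfl)),
    hmem _ (Subgroup.subset_closure (Or.inr rfl))⟩

/-- at most 18 automorphisms of `L3(4)` fix a Sylow 3-subgroup elementwise -/
theorem card_fix_syl [Fintype F] (hF : Fintype.card F = 4) (E : Subgroup PSF) (hE : Nat.card E = 9) :
    Nat.card {β : MulAut PSF // ∀ z ∈ E, β z = z} ≤ 18 := by
  obtain ⟨x, y, ω, h, hx, hy⟩ := exists_pr hF E hE
  exact card_fix_le hF h _ (fun β hβ => hβ _ hx) (fun β hβ => hβ _ hy)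

/-- `|C_H(E)| ≤ 18` -/
theorem card_centralizer_le [Fintype F] (hF : Fintype.card F = 4) {H : Type*} [Group H] [Finite H] (L : Subgroup H)
    [L.Normal] (hC : Subgroup.centralizer (L : Set H) = ⊥) (e : L ≃* PSF) (E : Subgroup H) (hEL : E ≤ L)
    (hE : Nat.card E = 9) : Nat.card (Subgroup.centralizer (E : Set H)) ≤ 18 := by
  let E' : Subgroup PSF := (E.subgroupOf L).map e.toMonoidHom
  have hE' : Nat.card E' = 9 := by
    rw [← hE, Subgroup.card_map_of_injective e.injective]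
    exact Nat.card_congr (Subgroup.subgroupOfEquivOfLe hEL).toEquiv
  refine le_trans ?_ (card_fix_syl hF E' hE')
  let ψ : H →* MulAut PSF := (MulAut.congr e).toMonoidHom.comp (MulAut.conjNormal : H →* MulAut L)
  have hψ : ∀ h : H, ∀ l : L, ψ h (e l) = e (MulAut.conjNormal h l) := by
    intro h l
    change e (MulAut.conjNormal h (e.symm (e l))) = _
    rw [e.symm_apply_apply]
  let f : Subgroup.centralizer (E : Set H) → {β : MulAut PSF // ∀ z ∈ E', β z = z} := fun h => ⟨ψ h.1, by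
    rintro _ ⟨l, hl, rfl⟩
    change ψ h.1 (e l) = e l
    rw [hψ]
    congr 1
    apply Subtype.ext
    rw [MulAut.conjNormal_apply]
    have h1 := Subgroup.mem_centralizer_iff.1 h.2 (l : H) hl
    rw [← h1, mul_assoc, mul_inv_cancel, mul_one]⟩
  refine Nat.card_le_card_of_injective f ?_
  intro a b hab
  have h1 : ψ a.1 = ψ b.1 := congrArg Subtype.val hab
  have h2 : a.1⁻¹ * b.1 ∈ Subgroup.centralizer (L : Set H) := by
    rw [Subgroup.mem_centralizer_iff]
    intro l hl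
    have h3 : ψ (a.1⁻¹ * b.1) (e ⟨l, hl⟩) = e ⟨l, hl⟩ := by
      rw [map_mul, map_inv, h1, inv_mul_cancel]; rfl
    rw [hψ] at h3
    have h4 := congrArg Subtype.val (e.injective h3)
    rw [MulAut.conjNormal_apply] at h4
    change (a.1⁻¹ * b.1) * l * (a.1⁻¹ * b.1)⁻¹ = l at h4
    rw [mul_inv_eq_iff_eq_mul] at h4
    exact h4.symm
  rw [hC, Subgroup.mem_bot] at h2
  exact Subtype.ext (inv_mul_eq_one.1 h2)


theorem center_PSF [Fintype F] (hF : Fintype.card F = 4) : Subgroup.center PSF = ⊥ := by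
  have hs : IsSimpleGroup PSF := Cfsg.Agent.S0249.result 3 (by norm_num)
  rcases (inferInstance : (Subgroup.center PSF).Normal).eq_bot_or_eq_top with h | h
  · exact h
  · exfalso
    let _ : CommGroup PSF :=
      { (inferInstance : Group PSF) with
        mul_comm := fun a b => (Subgroup.mem_center_iff.1 (h ▸ Subgroup.mem_top b : b ∈ Subgroup.center PSF) a) }
    have h1 := IsSimpleGroup.prime_card (α := PSF)
    rw [card_PSF hF] at h1
    norm_num at h1

/-- `C_H(F*(H)) = 1` if `F*(H) ≅ L3(4)` -/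
theorem centralizer_eq_bot [Fintype F] (hF : Fintype.card F = 4) {H : Type*} [Group H] [Finite H]
    (e : Cfsg.generalizedFittingSubgroup H ≃* PSF) :
    (Cfsg.generalizedFittingSubgroup H).Normal ∧
      Subgroup.centralizer (Cfsg.generalizedFittingSubgroup H : Set H) = ⊥ := by
  have hFn : (Cfsg.fittingSubgroup H).Normal :=
    SignalizersComponents.ComponentExists.fittingSubgroup_normal H
  have hLn : (Cfsg.layer H).Normal := SignalizersComponents.Components.layer_normal H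
  have hn : (Cfsg.generalizedFittingSubgroup H).Normal := by
    change (Cfsg.layer H ⊔ Cfsg.fittingSubgroup H).Normal
    infer_instance
  refine ⟨hn, ?_⟩
  rw [Subgroup.eq_bot_iff_forall]
  intro c hc
  have h1 := Cfsg.Agent.S1313.centralizer_le H hc
  -- e c is central in PSL
  have h2 : ∀ z : PSF, z * e ⟨c, h1⟩ = e ⟨c, h1⟩ * z := by
    intro z
    obtain ⟨l, rfl⟩ := e.surjective z
    rw [← map_mul, ← map_mul]
    congr 1
    exact Subtype.ext (Subgroup.mem_centralizer_iff.1 hc l l.2)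
  have h3 : e ⟨c, h1⟩ = 1 := by
    have h5 : e ⟨c, h1⟩ ∈ Subgroup.center PSF := Subgroup.mem_center_iff.2 h2
    rw [center_PSF hF] at h5
    exact h5
  have h4 : (⟨c, h1⟩ : Cfsg.generalizedFittingSubgroup H) = 1 := e.injective (by rw [h3, map_one])
  exact congrArg Subtype.val h4

/-- `|C_H(E)| ≤ 18` for a Sylow 3-subgroup `E` of `F*(H) ≅ L3(4)` -/
theorem card_centralizer_le' [Fintype F] (hF : Fintype.card F = 4) {H : Type*} [Group H] [Finite H]
    (e : Cfsg.generalizedFittingSubgroup H ≃* PSF) (E : Subgroup H) (hEL : E ≤ Cfsg.generalizedFittingSubgroup H)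
    (hE : Nat.card E = 9) : Nat.card (Subgroup.centralizer (E : Set H)) ≤ 18 := by
  obtain ⟨hn, hC⟩ := centralizer_eq_bot hF e
  exact card_centralizer_le hF _ hC e E hEL hE

end Cfsg.Agent.H888.L34
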